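import Cfsg.Agent.Lib.ChevStr.Bruhat
import Cfsg.Prelude.Def_ChevAutomorphisms

/-!
Field automorphisms of a Chevalley group and their fixed points: if the Cartan matrix is
invertible over the integers, the elements of `D.group F` fixed by the automorphism induced by a
field automorphism of prime order are the Chevalley group over the fixed field.
-/

set_option autoImplicit false

namespace CfsgLib.ChevField

open Cfsg.Lie CfsgLib.ChevStr
open scoped MatrixGroups

variable {D : ChevalleyDatum}

section BaseChange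

variable {F K : Type*} [Field F] [Field K]

theorem xMat_map (f : K →+* F) (r : Fin D.nroots) (t : K) :
    (D.xMat K r t).map f = D.xMat F r (f t) := by
  ext a b
  rcases a with i | u <;> rcases b with j | s <;>
    simp only [ChevalleyDatum.xMat, Matrix.map_apply, Matrix.of_apply] <;>
    split_ifs <;> simp [map_list_sum, List.map_map, Function.comp_def]

theorem x_map (f : K →+* F) (r : ℕ) (t : K) : (D.x K r t).map f = D.x F r (f t) := by
  unfold ChevalleyDatum.x
  split_ifs with h
  · exact xMat_map f _ t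
  · exact Matrix.map_one _ (map_zero f) (map_one f)

/-- Entrywise application of a ring homomorphism on the general linear group of the datum. -/
abbrev mapGL (f : K →+* F) : GL D.Idx K →* GL D.Idx F := Matrix.GeneralLinearGroup.map f

theorem coe_mapGL (f : K →+* F) (g : GL D.Idx K) :
    (mapGL f g : Matrix D.Idx D.Idx F) = (g : Matrix D.Idx D.Idx K).map f := rfl

theorem mapGL_injective (f : K →+* F) : Function.Injective (mapGL (D := D) f) := fun _ _ e =>
  Units.ext (Matrix.map_injective f.injective (congrArg Units.val e))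

variable (C : ChevCore D F)

theorem group_map_le (f : K →+* F) : (D.group K).map (mapGL f) ≤ D.group F := by
  rw [Subgroup.map_le_iff_le_comap]
  refine (Subgroup.closure_le _).2 ?_
  rintro g ⟨r, t, hg⟩
  exact Subgroup.subset_closure ⟨r, f t, by rw [coe_mapGL, hg, xMat_map]⟩

include C in
theorem xGL_mem_map (f : K →+* F) (r : ℕ) (t : K) :
    C.xGL r (f t) ∈ (D.group K).map (mapGL f) := by
  by_cases hr : r < D.nroots
  · have hunit : IsUnit (D.xMat K ⟨r, hr⟩ t) := by
      rw [Matrix.isUnit_iff_isUnit_det, isUnit_iff_ne_zero]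
      intro h0
      have h1 : (D.x F r (f t)).det = 0 := by
        rw [← x_map f, ChevalleyDatum.x, dif_pos hr, ← RingHom.mapMatrix_apply, ← RingHom.map_det,
          h0, map_zero]
      have h2 : IsUnit (D.x F r (f t)).det :=
        (Matrix.isUnit_iff_isUnit_det _).1 (C.xGL r (f t)).isUnit
      rw [h1] at h2
      exact not_isUnit_zero h2
    refine ⟨hunit.unit, Subgroup.subset_closure ⟨⟨r, hr⟩, t, hunit.unit_spec⟩, Units.ext ?_⟩
    rw [coe_mapGL, hunit.unit_spec, C.coe_xGL, ← x_map f, ChevalleyDatum.x, dif_pos hr]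
  · rw [C.xGL_of_le (not_lt.1 hr)]; exact one_mem _

theorem wordGL_mem_map (f : K →+* F) {w : List (ℕ × F)} (h : ∀ p ∈ w, p.2 ∈ f.fieldRange) :
    C.wordGL w ∈ (D.group K).map (mapGL f) := by
  refine Subgroup.list_prod_mem _ fun x hx => ?_
  obtain ⟨p, hp, rfl⟩ := List.mem_map.1 hx
  obtain ⟨a, ha⟩ := h p hp
  rw [← ha]
  exact xGL_mem_map C f _ a

variable (σ : F ≃+* F)

theorem mapGL_xGL (r : ℕ) (t : F) :
    mapGL σ.toRingHom (C.xGL r t) = C.xGL r (σ t) :=
  Units.ext (x_map _ r t)

theorem mapGL_wordGL (w : List (ℕ × F)) :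
    mapGL σ.toRingHom (C.wordGL w) = C.wordGL (w.map fun p => (p.1, σ p.2)) := by
  simp only [ChevCore.wordGL, map_list_prod, List.map_map]
  exact congrArg List.prod (List.map_congr_left fun p _ => mapGL_xGL C σ p.1 p.2)

theorem mapGL_word (L : List ℕ) (t : ℕ → F) :
    mapGL σ.toRingHom (C.word L t) = C.word L (fun r => σ (t r)) := by
  simp only [ChevCore.word, mapGL_wordGL, List.map_map, Function.comp_def]

theorem mapGL_nS (i : Fin D.rank) : mapGL σ.toRingHom (C.nS i) = C.nS i := by
  rw [ChevCore.nS, ChevCore.nGL, mapGL_wordGL]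
  simp [ChevalleyDatum.nWord]

theorem mapGL_torus (c : Fin D.rank → Fˣ) :
    mapGL σ.toRingHom (C.R.torus c) = C.R.torus (fun k => Units.map (σ.toRingHom : F →* F) (c k)) := by
  refine Units.ext ?_
  rw [coe_mapGL, C.R.coe_torus, C.R.coe_torus, Matrix.diagonal_map (map_zero _)]
  congr 1
  funext a
  simp only [RootData.torusChar, Units.coe_prod, Units.val_zpow_eq_zpow_val,
    map_prod, map_zpow₀]
  rfl

theorem prod_zpow_eq {G ι : Type*} [CommGroup G] (s : Finset ι) (f : ι → ℤ) (a : G) :
    ∏ j ∈ s, a ^ f j = a ^ ∑ j ∈ s, f j := by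
  classical
  induction s using Finset.induction with
  | empty => simp
  | insert j s hj ih => rw [Finset.prod_insert hj, Finset.sum_insert hj, ih, zpow_add]

theorem torus_eq_self {c : Fin D.rank → Fˣ}
    (N : Fin D.rank → Fin D.rank → ℤ)
    (hN : ∀ i k : Fin D.rank,
      ∑ j, N i j * D.cartan k.val (D.simple j.val) = if k = i then 1 else 0)
    (h : mapGL σ.toRingHom (C.R.torus c) = C.R.torus c) (i : Fin D.rank) :
    σ (c i : F) = c i := by
  have hchar : ∀ j : Fin D.rank, σ (C.R.torusChar c (C.R.α (D.simple j.val)) : F) =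
      C.R.torusChar c (C.R.α (D.simple j.val)) := fun j => by
    have h1 := congrArg (fun g : GL D.Idx F => (g : Matrix D.Idx D.Idx F)
      (Sum.inr ⟨_, C.R.simple_lt j⟩) (Sum.inr ⟨_, C.R.simple_lt j⟩)) h
    simpa [coe_mapGL, C.R.coe_torus, RootData.wt] using h1
  have hc : c i = ∏ j, C.R.torusChar c (C.R.α (D.simple j.val)) ^ N i j := by
    have h1 : ∀ j : Fin D.rank, C.R.torusChar c (C.R.α (D.simple j.val)) ^ N i j =
        ∏ k, c k ^ (N i j * D.cartan k.val (D.simple j.val)) := fun j => by
      rw [C.R.torusChar_root c (C.R.simple_lt j), ← Finset.prod_zpow]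
      exact Finset.prod_congr rfl fun k _ => by rw [← zpow_mul, mul_comm]
    rw [Finset.prod_congr rfl fun j _ => h1 j, Finset.prod_comm]
    rw [Fintype.prod_eq_single i]
    · rw [prod_zpow_eq, hN]; simp
    · intro k hk
      rw [prod_zpow_eq, hN, if_neg hk, zpow_zero]
  rw [hc, Units.coe_prod, map_prod]
  refine Finset.prod_congr rfl fun j _ => ?_
  rw [Units.val_zpow_eq_zpow_val, map_zpow₀, hchar]

include C in
theorem mapGL_posUnipotent {g : GL D.Idx F} (hg : g ∈ D.posUnipotent F) :
    mapGL σ.toRingHom g ∈ D.posUnipotent F := by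
  have h : D.posUnipotent F ≤ (D.posUnipotent F).comap (mapGL σ.toRingHom) :=
    C.posUnipotent_le fun r t hr => by
      rw [Subgroup.mem_comap, mapGL_xGL]; exact C.xGL_mem_posUnipotent hr _
  exact h hg

theorem mapGL_Ucl {S : Set ℕ} {g : GL D.Idx F} (hg : g ∈ C.Ucl S) :
    mapGL σ.toRingHom g ∈ C.Ucl S := by
  have h : C.Ucl S ≤ (C.Ucl S).comap (mapGL σ.toRingHom) := C.Ucl_le fun r hr t => by
    rw [Subgroup.mem_comap, mapGL_xGL]; exact C.xGL_mem_Ucl hr _
  exact h hg

include C in
theorem mapGL_borel {g : GL D.Idx F} (hg : g ∈ D.borelSubgroup F) :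
    mapGL σ.toRingHom g ∈ D.borelSubgroup F := by
  obtain ⟨u, hu, c, rfl⟩ := C.mem_borel.1 hg
  rw [map_mul, mapGL_torus]
  exact C.mem_borel.2 ⟨_, mapGL_posUnipotent C σ hu, _, rfl⟩

theorem word_fixed (f : K →+* F) (hf : ∀ x, σ x = x → ∃ a, f a = x) {L : List ℕ} {t : ℕ → F}
    (hp : L.Pairwise (· < ·)) (hpos : ∀ r ∈ L, D.IsPosRoot r)
    (h : mapGL σ.toRingHom (C.word L t) = C.word L t) :
    C.word L t ∈ (D.group K).map (mapGL f) := by
  rw [mapGL_word] at h
  have hfix := C.word_injective hp hpos _ _ h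
  refine Subgroup.list_prod_mem _ fun x hx => ?_
  simp only [List.map_map, List.mem_map, Function.comp] at hx
  obtain ⟨r, hr, rfl⟩ := hx
  obtain ⟨a, ha⟩ := hf _ (hfix r hr)
  rw [← ha]
  exact xGL_mem_map C f r a

theorem Ucl_fixed (f : K →+* F) (hf : ∀ x, σ x = x → ∃ a, f a = x) {S : Set ℕ}
    (hS : C.R.IsClosed S) {g : GL D.Idx F} (hg : g ∈ C.Ucl S)
    (h : mapGL σ.toRingHom g = g) : g ∈ (D.group K).map (mapGL f) := by
  classical
  have hset := C.setOf_mem_rootList (S := S) fun r hr => (hS.1 r hr).1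
  obtain ⟨t, rfl⟩ := C.exists_word (L := C.rootList S) (ChevCore.sorted_filter _) (by rwa [hset]) g
    (by rwa [hset])
  refine word_fixed C σ f hf (ChevCore.sorted_filter _) (fun r hr => hS.1 r ?_) h
  rw [← hset]; exact hr

include C in
/-- Fixed elements of the group are defined over the fixed field. -/
theorem mem_map_of_fixed (f : K →+* F) (hf : ∀ x, σ x = x → ∃ a, f a = x)
    (N : Fin D.rank → Fin D.rank → ℤ)
    (hN : ∀ i k : Fin D.rank,
      ∑ j, N i j * D.cartan k.val (D.simple j.val) = if k = i then 1 else 0)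
    {g : GL D.Idx F} (hg : g ∈ D.group F) (h : mapGL σ.toRingHom g = g) :
    g ∈ (D.group K).map (mapGL f) := by
  obtain ⟨w, hw, b, hb, n, hn, hnw, u, hu, rfl⟩ := C.normalForm_exists hg
  obtain ⟨n0, hn0, hacts⟩ := C.exists_rep hw
  have hn0m := C.rep_mem_monomial hn0
  have hd : n * n0⁻¹ ∈ D.diagonalSubgroup F :=
    C.mem_diagonal_of_moves_one (mul_mem hn (inv_mem hn0m))
      (by simpa using ChevCore.Moves.mul C hnw (ChevCore.Moves.inv C hn0m (ChevCore.Acts.moves C hacts)))
  have hb' : b * (n * n0⁻¹) ∈ D.borelSubgroup F :=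
    mul_mem hb (le_sup_right (a := D.posUnipotent F) hd)
  rw [show b * n * u = b * (n * n0⁻¹) * n0 * u by group] at h ⊢
  have hn0σ : mapGL σ.toRingHom n0 = n0 := by
    have hle : Subgroup.closure (Set.range C.nS) ≤
        MonoidHom.eqLocus (mapGL σ.toRingHom) (MonoidHom.id _) := by
      rw [Subgroup.closure_le]
      rintro _ ⟨i, rfl⟩
      exact mapGL_nS C σ i
    exact hle hn0
  rw [map_mul, map_mul, hn0σ] at h
  obtain ⟨hbf, huf⟩ := (C.normalForm_unique (mapGL_borel C σ hb') hb' hn0m hn0m
    (ChevCore.Acts.moves C hacts) (ChevCore.Acts.moves C hacts) (mapGL_Ucl C σ hu) hu h).2.2 rfl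
  refine mul_mem (mul_mem ?_ ?_) (Ucl_fixed C σ f hf (C.hR.invRoots_closed hw) hu huf)
  · obtain ⟨v, hv, c, hvc⟩ := C.mem_borel.1 hb'
    rw [hvc] at hbf ⊢
    rw [map_mul] at hbf
    have hdiag : ∀ d, C.R.torus d ∈ D.diagonalSubgroup F := fun d => by
      rw [C.diagonalSubgroup_eq]; exact ⟨d, rfl⟩
    have hσc : mapGL σ.toRingHom (C.R.torus c) ∈ D.diagonalSubgroup F := by
      rw [mapGL_torus]; exact hdiag _
    have hvv : v⁻¹ * mapGL σ.toRingHom v = 1 := by
      refine (Subgroup.eq_bot_iff_forall _).1 C.posUnipotent_inf_diagonal _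
        (Subgroup.mem_inf.2 ⟨mul_mem (inv_mem hv) (mapGL_posUnipotent C σ hv), ?_⟩)
      have : v⁻¹ * mapGL σ.toRingHom v =
          C.R.torus c * (mapGL σ.toRingHom (C.R.torus c))⁻¹ := by
        rw [eq_mul_inv_iff_mul_eq, mul_assoc, hbf, inv_mul_cancel_left]
      rw [this]
      exact mul_mem (hdiag _) (inv_mem hσc)
    have hvσ : mapGL σ.toRingHom v = v := (inv_mul_eq_one.1 hvv).symm
    rw [hvσ, mul_right_inj] at hbf
    refine mul_mem (Ucl_fixed C σ f hf C.R.isClosed_pos (by rwa [← C.posUnipotent_eq]) hvσ) ?_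
    have hc := torus_eq_self C σ N hN hbf
    have hmem : c ∈ ((D.group K).map (mapGL f)).comap C.R.torus := by
      refine Subgroup.pi_mem_of_mulSingle_mem _ fun i => ?_
      obtain ⟨a, ha⟩ := hf _ (hc i)
      rw [Subgroup.mem_comap, ← RootData.torusSingle, ← C.hGL_simple]
      refine wordGL_mem_map C f fun p hp => ?_
      have hci : ((c i : Fˣ) : F) ∈ f.fieldRange := ⟨a, ha⟩
      simp only [ChevalleyDatum.hWord, ChevalleyDatum.nWord, List.cons_append, List.nil_append,
        List.mem_cons, List.not_mem_nil, or_false] at hp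
      rcases hp with rfl | rfl | rfl | rfl | rfl | rfl <;>
        first
          | exact hci
          | exact neg_mem (inv_mem hci)
          | exact neg_mem (one_mem _)
          | exact neg_mem (inv_mem (neg_mem (one_mem _)))
    exact hmem
  · refine (Subgroup.closure_le _).2 ?_ hn0
    rintro _ ⟨i, rfl⟩
    refine wordGL_mem_map C f fun p hp => ?_
    simp only [ChevalleyDatum.nWord, List.mem_cons, List.not_mem_nil, or_false] at hp
    rcases hp with rfl | rfl | rfl <;>
      first
        | exact one_mem _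
        | exact neg_mem (inv_mem (one_mem _))

end BaseChange

/-- The fixed points of a field automorphism of prime order of a Chevalley group with unimodular
Cartan matrix form the Chevalley group over a subfield of index that prime. -/
theorem exists_fixed_iso.{u} {F : Type u} [Field F] [Fintype F] (C : ChevCore D F)
    (hroots : 0 < D.nroots) (N : Fin D.rank → Fin D.rank → ℤ)
    (hN : ∀ i k : Fin D.rank,
      ∑ j, N i j * D.cartan k.val (D.simple j.val) = if k = i then 1 else 0)
    (φ : MulAut ↥(D.group F)) (hφ : D.IsFieldAut φ) (r : ℕ) (ho : orderOf φ = r) :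
    ∃ (F₀ : Type) (_ : Field F₀) (_ : Fintype F₀), Fintype.card F = Fintype.card F₀ ^ r ∧
      Nonempty (↥((MulEquiv.toMonoidHom φ).eqLocus (MonoidHom.id ↥(D.group F))) ≃* ↥(D.group F₀)) := by
  classical
  obtain ⟨σ, hσ⟩ := hφ
  have hact : ∀ g : ↥(D.group F), (φ g : GL D.Idx F) = mapGL σ.toRingHom (g : GL D.Idx F) := by
    intro g
    obtain ⟨g, hg⟩ := g
    refine Subgroup.closure_induction
      (p := fun g hg => (φ ⟨g, hg⟩ : GL D.Idx F) = mapGL σ.toRingHom g) ?_ ?_ ?_ ?_ hg
    · rintro x ⟨s, t, hx⟩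
      have hxx : (x : Matrix D.Idx D.Idx F) = D.x F s.val t := by
        rw [hx, ChevalleyDatum.x, dif_pos s.isLt]
      refine Units.ext ?_
      rw [hσ ⟨x, Subgroup.subset_closure ⟨s, t, hx⟩⟩ s.val t s.isLt hxx, coe_mapGL, hxx, x_map]
      rfl
    · rw [map_one]; exact congrArg Subtype.val (map_one φ)
    · intro x y hx hy h1 h2
      rw [map_mul, ← h1, ← h2]
      exact congrArg Subtype.val (map_mul φ ⟨x, hx⟩ ⟨y, hy⟩)
    · intro x hx h1
      rw [map_inv, ← h1]
      exact congrArg Subtype.val (map_inv φ ⟨x, hx⟩)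
  have hpow : ∀ (k : ℕ) (g : ↥(D.group F)),
      (((φ ^ k) g : ↥(D.group F)) : GL D.Idx F) =
        mapGL ((σ ^ k : RingAut F).toRingHom) (g : GL D.Idx F) := by
    intro k
    induction k with
    | zero => intro g; exact Units.ext (by ext; rfl)
    | succ k ih =>
      intro g
      rw [pow_succ, pow_succ]
      show (((φ ^ k) (φ g) : ↥(D.group F)) : GL D.Idx F) = _
      rw [ih, hact]
      exact Units.ext (by ext; rfl)
  have hord : orderOf (σ : RingAut F) = r := by
    rw [← ho]
    refine orderOf_eq_orderOf_iff.2 fun k => ⟨fun h => ?_, fun h => ?_⟩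
    · refine MulEquiv.ext fun g => Subtype.ext ?_
      rw [hpow, h]
      exact Units.ext (by ext; rfl)
    · refine RingEquiv.ext fun t => ?_
      have h1 := hpow k ⟨C.xGL 0 t, C.xGL_mem_group 0 t⟩
      rw [h] at h1
      have h2 : C.xGL 0 t = C.xGL 0 ((σ ^ k : RingAut F) t) := by
        rw [← mapGL_xGL C (σ ^ k : RingAut F)]; exact h1
      exact (C.xGL_injective hroots h2).symm
  let Z : Subgroup (RingAut F) := Subgroup.zpowers σ
  let K : Subfield F := FixedPoints.subfield Z F
  have hfin : Finite (RingAut F) := Finite.of_injective (fun e => (e : F → F)) DFunLike.coe_injective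
  have : Fintype Z := Fintype.ofFinite Z
  have : Finite (F ≃+* F) := hfin
  have hrank : Module.finrank K F = r := by
    rw [← hord, ← Nat.card_zpowers]
    exact (FixedPoints.finrank_eq_card Z F).trans Fintype.card_eq_nat_card
  have : Fintype K := Fintype.ofFinite K
  let e : Fin (Fintype.card K) ≃ K := (Fintype.equivFin K).symm
  letI hF0 : Field (Fin (Fintype.card K)) := e.field
  let f : Fin (Fintype.card K) →+* F := K.subtype.comp e.ringEquiv.toRingHom
  have hf : ∀ x, σ x = x → ∃ a, f a = x := by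
    intro x hx
    have hxK : x ∈ K := by
      rintro ⟨τ, hτ⟩
      have : Z ≤ MulAction.stabilizer (RingAut F) x := (Subgroup.zpowers_le).2 hx
      exact this hτ
    exact ⟨e.symm ⟨x, hxK⟩, congrArg Subtype.val (e.apply_symm_apply ⟨x, hxK⟩)⟩
  have hσf : ∀ a, σ (f a) = f a := fun a => (e a).2 ⟨σ, Subgroup.mem_zpowers σ⟩
  refine ⟨Fin (Fintype.card K), hF0, inferInstance, ?_, ?_⟩
  · rw [Fintype.card_fin, ← hrank]
    exact Module.card_eq_pow_finrank
  · have hmap : ((MulEquiv.toMonoidHom φ).eqLocus (MonoidHom.id ↥(D.group F))).map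
        (D.group F).subtype = (D.group (Fin (Fintype.card K))).map (mapGL f) := by
      refine le_antisymm ?_ fun g hg => ?_
      · rintro _ ⟨g, hg, rfl⟩
        exact mem_map_of_fixed C σ f hf N hN g.2 ((hact g).symm.trans (congrArg Subtype.val hg))
      · refine ⟨⟨g, group_map_le f hg⟩, ?_, rfl⟩
        obtain ⟨g0, -, rfl⟩ := hg
        refine Subtype.ext ((hact _).trans (Units.ext ?_))
        ext a b
        exact hσf _
    exact ⟨((Subgroup.equivMapOfInjective _ _ Subtype.val_injective).trans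
      (MulEquiv.subgroupCongr hmap)).trans
      (Subgroup.equivMapOfInjective _ _ (mapGL_injective f)).symm⟩

end CfsgLib.ChevField
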