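import Cfsg.Agent.Lib.ChevField.Fixed
import Cfsg.Prelude.Def_LieChev

/-!
Fixed points of field automorphisms of prime order for types E8, F4, G2, given the structure bundle.
-/

set_option autoImplicit false

namespace CfsgLib.ChevField

open Cfsg.Lie CfsgLib.ChevStr

/-- Inverse of the transposed Cartan matrix of the tabulated E8. -/
def invCartanE8 : Fin chevE8.rank → Fin chevE8.rank → ℤ := fun i j =>
  ([[4, 5, 7, 10, 8, 6, 4, 2], [5, 8, 10, 15, 12, 9, 6, 3], [7, 10, 14, 20, 16, 12, 8, 4],
    [10, 15, 20, 30, 24, 18, 12, 6], [8, 12, 16, 24, 20, 15, 10, 5], [6, 9, 12, 18, 15, 12, 8, 4],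
    [4, 6, 8, 12, 10, 8, 6, 3], [2, 3, 4, 6, 5, 4, 3, 2]].getD i.val []).getD j.val 0

/-- Inverse of the transposed Cartan matrix of the tabulated F4. -/
def invCartanF4 : Fin chevF4.rank → Fin chevF4.rank → ℤ := fun i j =>
  ([[2, 3, 2, 1], [3, 6, 4, 2], [4, 8, 6, 3], [2, 4, 3, 2]].getD i.val []).getD j.val 0

/-- Inverse of the transposed Cartan matrix of the tabulated G2. -/
def invCartanG2 : Fin chevG2.rank → Fin chevG2.rank → ℤ := fun i j =>
  ([[2, 1], [3, 2]].getD i.val []).getD j.val 0

theorem invCartanE8_spec : ∀ i k : Fin chevE8.rank,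
    ∑ j, invCartanE8 i j * chevE8.cartan k.val (chevE8.simple j.val) = if k = i then 1 else 0 := by
  decide +kernel

theorem invCartanF4_spec : ∀ i k : Fin chevF4.rank,
    ∑ j, invCartanF4 i j * chevF4.cartan k.val (chevF4.simple j.val) = if k = i then 1 else 0 := by
  decide +kernel

theorem invCartanG2_spec : ∀ i k : Fin chevG2.rank,
    ∑ j, invCartanG2 i j * chevG2.cartan k.val (chevG2.simple j.val) = if k = i then 1 else 0 := by
  decide +kernel

end CfsgLib.ChevField
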